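import Cfsg.Agent.H211.Dl.Theta
import Cfsg.Agent.H152.PS.Deg

/-!
# `Many p Y (rank)` for groups with a root group datum in their own characteristic (S4769, DL-THETA)
-/

set_option autoImplicit false
set_option linter.unusedSectionVars false
set_option linter.style.haveILetI false

open Cfsg

namespace Cfsg.Agent.H211.Dl

open CoxeterSystem Cfsg.Agent.ChevalleyStructure.CoxeterGeom Cfsg.Agent.Tits.Roots Cfsg.Agent.Tits.Core
  Cfsg.Agent.Nodes.Reps Cfsg.Agent.Nodes.BNOf Cfsg.Agent.Nodes.Bruhat Cfsg.Agent.Nodes.LeviDec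
  Cfsg.Agent.Omega.EH3.Kf.Lev
open Cfsg.Agent.Characters.Core Cfsg.Agent.H246.Dl

variable {I W Y : Type*} [Fintype I] [DecidableEq I] [Group W] [Group Y] {M : CoxeterMatrix I}
  {cs : CoxeterSystem M W} {A : I → I → ℤ} {h : IsCartan M A} {p : ℕ} {T : Subgroup Y} {n : I → Y}
  {X : (I → ℤ) → Subgroup Y}

theorem ps_of [Finite W] [Finite Y] [Fact p.Prime] (R : RGD cs h p T n X) (hG : GG cs h T X = ⊤)
    (hC : CommGen cs h X) (χ : Y → ℂ) (hχ : IsIrrCharacter Y χ) (h1 : χ ≠ 1)
    (hB : ∑ᶠ b : RGD.B cs h T X, χ b ≠ 0) : p ∣ charDegree χ := by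
  haveI : Fintype (RGD.B cs h T X) := Fintype.ofFinite _
  rw [finsum_eq_sum_of_fintype] at hB
  exact H152.PS.dvd_degree R hG hC hχ h1 hB

/-- **DL-THETA.** `Y` has at least `rank` orbits of irreducible characters of degree divisible by `p`. -/
theorem many_rank [Finite W] [Finite Y] [Fact p.Prime] (R : RGD cs h p T n X) (hG : GG cs h T X = ⊤)
    (hC : CommGen cs h X) : Many p Y (Fintype.card I) :=
  many_rank_of R hG (ps_of R hG hC)

/-- **DL-THETA, rank two.** Three orbits if all automorphisms fix the classes of parabolic subgroups. -/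
theorem many_classes [Finite W] [Finite Y] [Fact p.Prime] (R : RGD cs h p T n X) (hG : GG cs h T X = ⊤)
    (hC : CommGen cs h X) (heven : ∀ k l, k ≠ l → Even (M k l)) {i j : I} (hij : i ≠ j)
    (hτ : ∀ α : MulAut Y, ∀ J : Set I, ∃ g : Y,
      (PJ cs h T X J).map α.toMonoidHom = (PJ cs h T X J).map (MulAut.conj g).toMonoidHom) : Many p Y 3 :=
  many_classes_of R hG (ps_of R hG hC) heven hij hτ

end Cfsg.Agent.H211.Dl
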