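import Mathlib
import Cfsg.Agent.H211.Dl.Mack
import Cfsg.Agent.KFacts.RgdDiag
import Cfsg.Agent.KFacts.RgdSyl
import Cfsg.Agent.H454.Dl.Crit

/-!
# `Aut`-invariant combinations of the permutation characters on the parabolic subgroups (S4769, DL-THETA)

* `exists_perm_fixN` : an automorphism `σ` of `Y` induces a permutation `τ` of the nodes with
  `1_{P_τJ}^Y (σ g) = 1_{P_J}^Y (g)`;
* `many_rank_of` : `Many p Y (Fintype.card I)`;
* `many_classes_of` : `Many p Y 3` for rank two, `m_ij` even, if the automorphisms fix the classes of parabolic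
  subgroups.
-/

set_option autoImplicit false
set_option linter.unusedSectionVars false
set_option linter.style.haveILetI false

open Cfsg

namespace Cfsg.Agent.H211.Dl

open CoxeterSystem Cfsg.Agent.ChevalleyStructure.CoxeterGeom Cfsg.Agent.Tits.Roots Cfsg.Agent.Tits.Core
  Cfsg.Agent.Tits.Exchange Cfsg.Agent.Nodes.Reps Cfsg.Agent.Nodes.BNOf Cfsg.Agent.Nodes.StabComb
  Cfsg.Agent.Nodes.Bruhat Cfsg.Agent.Nodes.OppDec Cfsg.Agent.Nodes.LeviDec Cfsg.Agent.KFacts.RgdAut
  Cfsg.Agent.KFacts.RgdDiag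
open Cfsg.Agent.Characters.Core Cfsg.Agent.H246.Dl

variable {I W Y : Type*} [Fintype I] [DecidableEq I] [Group W] [Group Y] {M : CoxeterMatrix I}
  {cs : CoxeterSystem M W} {A : I → I → ℤ} {h : IsCartan M A} {p : ℕ} {T : Subgroup Y} {n : I → Y}
  {X : (I → ℤ) → Subgroup Y}

section

variable (R : RGD cs h p T n X)

include R

theorem exists_sylow_eq [Finite Y] [Fact p.Prime] [Finite W] (hG : GG cs h T X = ⊤) :
    ∃ P : Sylow p Y, (P : Subgroup Y) = RGD.Sup X (RGD.Pos cs h) := by
  have h1 := KFacts.RgdSyl.not_dvd_relIndex R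
  rw [hG, Subgroup.relIndex_top_right] at h1
  exact ⟨R.isPGroup_Upos.toSylow h1, rfl⟩

/-- An automorphism composed with an inner one fixes `U`. -/
theorem exists_conj_fix [Finite Y] [Fact p.Prime] [Finite W] (hG : GG cs h T X = ⊤) (σ : MulAut Y) :
    ∃ y : Y, Fix (MulAut.conj y * σ) (RGD.Sup X (RGD.Pos cs h)) := by
  obtain ⟨P, hP⟩ := exists_sylow_eq R hG
  obtain ⟨y, hy⟩ := MulAction.exists_smul_eq Y (σ • P) P
  refine ⟨y, ?_⟩
  have h1 : (MulAut.conj y * σ) • P = P := by
    rw [mul_smul]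
    exact hy
  rw [← hP, fix_iff]
  exact congrArg (fun P : Sylow p Y => (P : Subgroup Y)) h1

/-- An automorphism fixing `B` permutes the parabolic subgroups. -/
theorem exists_perm_PJ [Finite W] (hG : GG cs h T X = ⊤) {β : MulAut Y} (hB : Fix β (RGD.B cs h T X)) :
    ∃ τ : Equiv.Perm I, ∀ (J : Set I) x, β x ∈ PJ cs h T X (τ '' J) ↔ x ∈ PJ cs h T X J := by
  obtain ⟨τ, hτ⟩ := exists_perm R hG hB
  refine ⟨τ, fun J x => ?_⟩
  obtain ⟨P, hP⟩ : ∃ P : Subgroup Y, ∀ x, x ∈ P ↔ β x ∈ PJ cs h T X (τ '' J) :=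
    ⟨(PJ cs h T X (τ '' J)).comap β.toMonoidHom, fun x => Iff.rfl⟩
  have hPB : RGD.B cs h T X ≤ P := fun x hx => (hP x).2 (B_le_PJ ((hB x).2 hx))
  have h1 := inf_eq_PJ R hPB
  rw [hG, inf_top_eq] at h1
  have h2 : {i | n i ∈ P} = J := by
    ext i
    change n i ∈ P ↔ i ∈ J
    rw [hP]
    have h3 : β (n i) ∈ PJ cs h T X {τ i} := (hτ i _).2 (LJ_le_PJ (n_mem_LJ R rfl))
    obtain ⟨w, hw, hc⟩ := (mem_PJ_iff_cell R).1 h3
    rcases mem_WJ_singleton hw with rfl | rfl
    · exfalso
      have h6 : n i ∈ RGD.B cs h T X := (hB _).1 hc.mem_of_one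
      exact simple_ne_one i (R.eq_one_of_mem_B (rp_simple cs R.nsys i) h6)
    · rw [cell_mem_PJ_iff R hc]
      constructor
      · intro h4
        obtain ⟨j, hj, e⟩ := mem_of_simple_mem (h := h) h4
        rwa [← τ.injective e]
      · intro hi
        exact simple_mem_WJ cs ⟨i, hi, rfl⟩
  rw [← hP, h1, h2]

/-- **Automorphisms permute the permutation characters.** -/
theorem exists_perm_fixN [Finite Y] [Fact p.Prime] [Finite W] (hG : GG cs h T X = ⊤) (σ : Y ≃* Y) :
    ∃ τ : Equiv.Perm I, ∀ (J : Set I) (g : Y),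
      fixN (PJ cs h T X (τ '' J)) (σ g) = fixN (PJ cs h T X J) g := by
  obtain ⟨y, hy⟩ := exists_conj_fix R hG σ
  obtain ⟨τ, hτ⟩ := exists_perm_PJ R hG (fix_B R hG hy)
  refine ⟨τ, fun J g => ?_⟩
  have h1 := fixN_map (MulAut.conj y * σ) (hτ J) g
  rw [← h1, MulAut.mul_apply, MulAut.conj_apply, fixN_conj]

end

/-! ### the functions `Θ_j` -/

/-- `Θ_j = ∑_{|J| = j} 1_{P_J}^Y`. -/
noncomputable def Th (cs : CoxeterSystem M W) (h : IsCartan M A) (T : Subgroup Y) (X : (I → ℤ) → Subgroup Y) (j : ℕ)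
    (g : Y) : ℂ := ∑ J : Finset I, if J.card = j then (fixN (PJ cs h T X (J : Set I)) g : ℂ) else 0

section

variable (R : RGD cs h p T n X)

include R

theorem Th_aut [Finite Y] [Fact p.Prime] [Finite W] (hG : GG cs h T X = ⊤) (j : ℕ) (σ : Y ≃* Y) (g : Y) :
    Th cs h T X j (σ g) = Th cs h T X j g := by
  obtain ⟨τ, hτ⟩ := exists_perm_fixN R hG σ
  unfold Th
  symm
  refine Fintype.sum_equiv (Equiv.finsetCongr τ) _ _ fun J => ?_
  have h1 : (Equiv.finsetCongr τ J).card = J.card := Finset.card_map _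
  have h2 : ((Equiv.finsetCongr τ J : Finset I) : Set I) = τ '' (J : Set I) := by
    rw [Equiv.finsetCongr_apply, Finset.coe_map]
    rfl
  rw [h1, h2, hτ]

omit R in
theorem Th_conj [Finite Y] (j : ℕ) : IsClassFunction Y (Th cs h T X j) := by
  intro g x
  unfold Th
  refine Finset.sum_congr rfl fun J _ => ?_
  rw [fixN_conj]

omit R in
theorem PJ_univ (hG : GG cs h T X = ⊤) : PJ cs h T X (Set.univ : Set I) = ⊤ := by
  rw [eq_top_iff, ← hG, ← LJ_univ]
  exact LJ_le_PJ

omit R in
theorem Th_card (hG : GG cs h T X = ⊤) (g : Y) : Th cs h T X (Fintype.card I) g = 1 := by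
  unfold Th
  rw [Finset.sum_eq_single (Finset.univ : Finset I)]
  · rw [if_pos Finset.card_univ, Finset.coe_univ, PJ_univ hG]
    have h1 : fixN (⊤ : Subgroup Y) g = 1 := by
      unfold fixN
      rw [Nat.card_eq_one_iff_unique]
      haveI : Subsingleton (Y ⧸ (⊤ : Subgroup Y)) := QuotientGroup.subsingleton_quotient_top
      refine ⟨inferInstance, ⟨⟨((1 : Y) : Y ⧸ (⊤ : Subgroup Y)), ?_⟩⟩⟩
      rw [MulAction.mem_fixedBy]
      exact Subsingleton.elim _ _
    rw [h1, Nat.cast_one]
  · intro J _ hJ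
    rw [if_neg]
    intro h1
    exact hJ (Finset.card_eq_iff_eq_univ _ |>.1 h1)
  · intro h1
    exact absurd (Finset.mem_univ _) h1

/-- **Independence.** -/
theorem Th_indep [Finite Y] [Finite W] (hG : GG cs h T X = ⊤) (b : ℕ → ℂ)
    (hb : ∀ g : Y, ∑ j ∈ Finset.range (Fintype.card I + 1), b j * Th cs h T X j g = 0) :
    ∀ k ≤ Fintype.card I, b k = 0 := by
  refine eq_zero_of_relation (cs := cs) (h := h) b (relation R hG (fun J => b J.card) fun g => ?_)
  have h1 := hb g
  unfold Th at h1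
  simp only [Finset.mul_sum] at h1
  rw [Finset.sum_comm] at h1
  rw [← h1]
  refine Finset.sum_congr rfl fun J _ => ?_
  rw [Finset.sum_eq_single J.card]
  · rw [if_pos rfl]
  · intro j _ hj
    rw [if_neg hj.symm, mul_zero]
  · intro h2
    exfalso
    apply h2
    rw [Finset.mem_range, Nat.lt_succ_iff, ← Finset.card_univ]
    exact Finset.card_le_card (Finset.subset_univ J)

/-- Constituents. -/
theorem dvd_of_fixN [Finite Y] [Fintype Y]
    (hPS : ∀ χ : Y → ℂ, IsIrrCharacter Y χ → χ ≠ 1 → ∑ᶠ b : RGD.B cs h T X, χ b ≠ 0 → p ∣ charDegree χ)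
    {χ : Y → ℂ} (hχ : IsIrrCharacter Y χ) (h1 : χ ≠ 1) (J : Set I)
    (hin : classInner (fun g : Y => (fixN (PJ cs h T X J) g : ℂ)) χ ≠ 0) : p ∣ charDegree χ :=
  hPS χ hχ h1 (sum_ne_zero_of_le (isIrr_isCharacter hχ) B_le_PJ
    (sum_ne_zero_of_classInner (isIrr_isClassFunction hχ) hin))

/-- **`Many` from the rank.** -/
theorem many_rank_of [Finite Y] [Fact p.Prime] [Finite W] (hG : GG cs h T X = ⊤)
    (hPS : ∀ χ : Y → ℂ, IsIrrCharacter Y χ → χ ≠ 1 → ∑ᶠ b : RGD.B cs h T X, χ b ≠ 0 → p ∣ charDegree χ) :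
    Many p Y (Fintype.card I) := by
  classical
  haveI := Fintype.ofFinite Y
  -- the number of subsets with `j` elements
  let N : ℕ → ℂ := fun j => ∑ J : Finset I, if J.card = j then 1 else 0
  refine H454.DlCrit.Many.of_indep (fun j : Fin (Fintype.card I) => fun g => Th cs h T X j g - N j) ?_ ?_ ?_ ?_
  · rw [Fintype.linearIndependent_iff]
    intro b hb i
    -- the coefficients of the `Θ_j`
    let b' : ℕ → ℂ := fun j => if hj : j < Fintype.card I then b ⟨j, hj⟩ else - ∑ i, b i * N i
    have h1 := Th_indep R hG b' (fun g => by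
      have h2 := congrFun hb g
      rw [Finset.sum_apply] at h2
      simp only [Pi.smul_apply, smul_eq_mul, mul_sub, Finset.sum_sub_distrib] at h2
      rw [Finset.sum_range_succ, Th_card hG, mul_one]
      have h3 : b' (Fintype.card I) = - ∑ i, b i * N i := dif_neg (lt_irrefl _)
      have h4 : ∑ j ∈ Finset.range (Fintype.card I), b' j * Th cs h T X j g =
          ∑ j : Fin (Fintype.card I), b j * Th cs h T X j g := by
        rw [Finset.sum_range]
        refine Finset.sum_congr rfl fun j _ => ?_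
        have : b' (j : ℕ) = b j := dif_pos j.2
        rw [this]
      rw [h3, h4, ← sub_eq_add_neg]
      exact h2) i i.2.le
    have h2 : b' (i : ℕ) = b i := dif_pos i.2
    rwa [h2] at h1
  · intro j g x
    change Th cs h T X j _ - N j = Th cs h T X j _ - N j
    rw [Th_conj]
  · intro j σ g
    rw [Th_aut R hG]
  · intro j χ hin
    -- the function is a combination of the permutation characters and `1`
    have h1 : (fun g : Y => Th cs h T X j g - N j) = ∑ J : Finset I,
        (if J.card = j then (1 : ℂ) else 0) • ((fun g : Y => (fixN (PJ cs h T X (J : Set I)) g : ℂ)) - 1) := by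
      funext g
      rw [Finset.sum_apply]
      unfold Th
      rw [← Finset.sum_sub_distrib]
      refine Finset.sum_congr rfl fun J _ => ?_
      rw [Pi.smul_apply, Pi.sub_apply, Pi.one_apply, smul_eq_mul]
      split_ifs <;> simp
    by_cases hχ1 : (χ : Y → ℂ) = 1
    · exfalso
      apply hin
      rw [h1, hχ1, classInner_sum_left]
      refine Finset.sum_eq_zero fun J _ => ?_
      rw [classInner_smul_left, classInner_sub_left, classInner_fixN_one, classInner_irr_self isIrr_one, sub_self,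
        mul_zero]
    · rw [h1, classInner_sum_left] at hin
      obtain ⟨J, -, hJ⟩ := Finset.exists_ne_zero_of_sum_ne_zero hin
      rw [classInner_smul_left, classInner_sub_left, classInner_irr_ne isIrr_one χ.2 (Ne.symm hχ1), sub_zero] at hJ
      exact dvd_of_fixN R hPS χ.2 hχ1 _ (right_ne_zero_of_mul hJ)

/-- **Automorphisms fixing the classes of parabolic subgroups.** -/
theorem fixN_aut_of (hτ : ∀ α : MulAut Y, ∀ J : Set I, ∃ g : Y,
      (PJ cs h T X J).map α.toMonoidHom = (PJ cs h T X J).map (MulAut.conj g).toMonoidHom)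
    (J : Set I) (σ : Y ≃* Y) (g : Y) : fixN (PJ cs h T X J) (σ g) = fixN (PJ cs h T X J) g := by
  obtain ⟨y, hy⟩ := hτ σ J
  have h1 : ∀ x, ((MulAut.conj y)⁻¹ * σ : MulAut Y) x ∈ PJ cs h T X J ↔ x ∈ PJ cs h T X J := by
    intro x
    have h2 : ∀ z : Y, z ∈ (PJ cs h T X J).map (MulAut.conj y).toMonoidHom ↔ (MulAut.conj y)⁻¹ z ∈ PJ cs h T X J := by
      intro z
      constructor
      · rintro ⟨u, hu, rfl⟩
        change (MulAut.conj y)⁻¹ (MulAut.conj y u) ∈ _
        rw [MulAut.inv_apply_self]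
        exact hu
      · intro hz
        exact ⟨_, hz, MulAut.apply_inv_self _ (MulAut.conj y) z⟩
    rw [MulAut.mul_apply, ← h2, ← hy]
    constructor
    · rintro ⟨u, hu, e⟩
      have : u = x := σ.injective e
      rwa [← this]
    · intro hx
      exact ⟨x, hx, rfl⟩
  have h3 := fixN_map ((MulAut.conj y)⁻¹ * σ : MulAut Y) h1 g
  rw [← h3, MulAut.mul_apply, ← map_inv, MulAut.conj_apply, fixN_conj]

omit R in
/-- If all `m_ij` are even, simple reflections of different nodes are not conjugate. -/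
theorem fixN_simple_eq_zero [Finite W] (heven : ∀ k l, k ≠ l → Even (M k l)) {i j : I} (hij : i ≠ j) :
    fixN (WJ cs ({j} : Set I)) (cs.simple i) = 0 := by
  classical
  apply fixN_eq_zero
  intro v hv
  let f : I → ℤˣ := fun k => if k = i then -1 else 1
  have hf : M.IsLiftable f := by
    intro k l
    by_cases hkl : k = l
    · subst hkl
      rw [M.diagonal, pow_one]
      exact Int.units_mul_self _
    · obtain ⟨m, hm⟩ := heven k l hkl
      rw [hm, ← two_mul, pow_mul, sq, Int.units_mul_self, one_pow]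
  let φ := cs.lift ⟨f, hf⟩
  have hφ : ∀ k, φ (cs.simple k) = f k := fun k => cs.lift_apply_simple hf k
  rcases mem_WJ_singleton hv with h1 | h1
  · have h2 : cs.simple i = 1 := by
      have : cs.simple i = v * (v⁻¹ * cs.simple i * v) * v⁻¹ := by group
      rw [this, h1]
      group
    exact simple_ne_one i h2
  · have h2 := congrArg φ h1
    rw [map_mul, map_mul, map_inv, hφ, hφ, mul_comm, ← mul_assoc, mul_inv_cancel, one_mul] at h2
    have h3 : f i = -1 := if_pos rfl
    have h4 : f j = 1 := if_neg hij.symm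
    rw [h3, h4] at h2
    exact absurd h2 (by decide)

/-- **`Many p Y 3` in rank two.** -/
theorem many_classes_of [Finite Y] [Fact p.Prime] [Finite W] (hG : GG cs h T X = ⊤)
    (hPS : ∀ χ : Y → ℂ, IsIrrCharacter Y χ → χ ≠ 1 → ∑ᶠ b : RGD.B cs h T X, χ b ≠ 0 → p ∣ charDegree χ)
    (heven : ∀ k l, k ≠ l → Even (M k l)) {i j : I} (hij : i ≠ j)
    (hτ : ∀ α : MulAut Y, ∀ J : Set I, ∃ g : Y,
      (PJ cs h T X J).map α.toMonoidHom = (PJ cs h T X J).map (MulAut.conj g).toMonoidHom) :
    Many p Y 3 := by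
  classical
  haveI := Fintype.ofFinite Y
  let Js : Fin 3 → Set I := ![∅, {i}, {j}]
  refine H454.DlCrit.Many.of_indep (fun k : Fin 3 => (fun g : Y => (fixN (PJ cs h T X (Js k)) g : ℂ)) - 1) ?_ ?_ ?_ ?_
  · rw [Fintype.linearIndependent_iff]
    intro b hb
    let Kf : Fin 4 → Finset I := ![∅, {i}, {j}, Finset.univ]
    have h1 := relation_iff (fun k : Fin 4 => PJ cs h T X (Kf k : Set I)) (fun k : Fin 4 => WJ cs (Kf k : Set I))
      (fun k l => orb_PJ R hG _ _) ![b 0, b 1, b 2, -(b 0 + b 1 + b 2)] (by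
        intro g
        have h2 := congrFun hb g
        rw [Finset.sum_apply, Fin.sum_univ_three] at h2
        rw [Fin.sum_univ_four]
        have h3 : (fixN (PJ cs h T X ((Finset.univ : Finset I) : Set I)) g : ℂ) = 1 := by
          have h4 := Th_card (cs := cs) (h := h) (T := T) (X := X) hG g
          unfold Th at h4
          rw [Finset.sum_eq_single (Finset.univ : Finset I)] at h4
          · rwa [if_pos Finset.card_univ] at h4
          · intro J _ hJ
            rw [if_neg]
            intro h1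
            exact hJ (Finset.card_eq_iff_eq_univ _ |>.1 h1)
          · intro h1
            exact absurd (Finset.mem_univ _) h1
        have e0 : (Kf 0 : Set I) = Js 0 := by simp [Kf, Js]
        have e1 : (Kf 1 : Set I) = Js 1 := by simp [Kf, Js]
        have e2 : (Kf 2 : Set I) = Js 2 := by simp [Kf, Js]
        have e3 : Kf 3 = Finset.univ := rfl
        rw [e0, e1, e2, e3, h3]
        simp only [Pi.smul_apply, Pi.sub_apply, Pi.one_apply, smul_eq_mul, Pi.zero_apply] at h2
        simp only [Matrix.cons_val_zero, Matrix.cons_val_one, Matrix.cons_val]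
        linear_combination h2)
    have h2 : ∀ w : W, b 0 * (fixN (WJ cs ((∅ : Finset I) : Set I)) w : ℂ) +
        b 1 * (fixN (WJ cs (({i} : Finset I) : Set I)) w : ℂ) + b 2 * (fixN (WJ cs (({j} : Finset I) : Set I)) w : ℂ) +
        -(b 0 + b 1 + b 2) * (fixN (WJ cs ((Finset.univ : Finset I) : Set I)) w : ℂ) = 0 := by
      intro w
      have h3 := h1 w
      rw [Fin.sum_univ_four] at h3
      exact h3
    -- the product `s_i s_j`
    have hs : b 0 + b 1 + b 2 = 0 := by
      have h3 := h2 (cs.wordProd ({i, j} : Finset I).toList)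
      have hc : ({i, j} : Finset I).card = 2 := Finset.card_pair hij
      rw [fixN_cox_eq_zero (h := h) (J := (∅ : Finset I)) (by rw [hc, Finset.card_empty]; omega),
        fixN_cox_eq_zero (h := h) (J := ({i} : Finset I)) (by rw [hc, Finset.card_singleton]; omega),
        fixN_cox_eq_zero (h := h) (J := ({j} : Finset I)) (by rw [hc, Finset.card_singleton]; omega)] at h3
      simp only [Nat.cast_zero, mul_zero, zero_add] at h3
      rcases mul_eq_zero.1 h3 with h4 | h4
      · exact neg_eq_zero.1 h4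
      · exfalso
        rw [Nat.cast_eq_zero] at h4
        refine (fixN_pos_of_mem (H := WJ cs ((Finset.univ : Finset I) : Set I)) ?_).ne' h4
        rw [Finset.coe_univ]
        exact mem_univ' cs _
    have h3 : ∀ w : W, b 0 * (fixN (WJ cs ((∅ : Finset I) : Set I)) w : ℂ) +
        b 1 * (fixN (WJ cs (({i} : Finset I) : Set I)) w : ℂ) +
        b 2 * (fixN (WJ cs (({j} : Finset I) : Set I)) w : ℂ) = 0 := by
      intro w
      have h4 := h2 w
      rw [hs] at h4
      linear_combination h4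
    have hempty : ∀ k, fixN (WJ cs ((∅ : Finset I) : Set I)) (cs.simple k) = 0 := by
      intro k
      apply fixN_eq_zero
      intro v hv
      rw [Finset.coe_empty] at hv
      have h4 := WJ_empty hv
      have h5 : cs.simple k = v * (v⁻¹ * cs.simple k * v) * v⁻¹ := by group
      rw [h4] at h5
      exact simple_ne_one (cs := cs) k (by rw [h5]; group)
    have hpos : ∀ k, (fixN (WJ cs (({k} : Finset I) : Set I)) (cs.simple k) : ℂ) ≠ 0 := by
      intro k
      rw [Nat.cast_ne_zero]
      exact (fixN_pos_of_mem (simple_mem_WJ cs (by simp))).ne'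
    have hb1 : b 1 = 0 := by
      have h4 := h3 (cs.simple i)
      rw [hempty, Finset.coe_singleton j, fixN_simple_eq_zero heven hij] at h4
      simp only [Nat.cast_zero, mul_zero, zero_add, add_zero] at h4
      exact (mul_eq_zero.1 h4).resolve_right (hpos i)
    have hb2 : b 2 = 0 := by
      have h4 := h3 (cs.simple j)
      rw [hempty, hb1] at h4
      simp only [Nat.cast_zero, mul_zero, zero_add, zero_mul] at h4
      exact (mul_eq_zero.1 h4).resolve_right (hpos j)
    have hb0 : b 0 = 0 := by rw [hb1, hb2, add_zero, add_zero] at hs; exact hs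
    intro k
    fin_cases k
    · exact hb0
    · exact hb1
    · exact hb2
  · intro k g x
    change (fixN _ _ : ℂ) - 1 = (fixN _ _ : ℂ) - 1
    rw [fixN_conj]
  · intro k σ g
    change (fixN _ _ : ℂ) - 1 = (fixN _ _ : ℂ) - 1
    rw [fixN_aut_of R hτ]
  · intro k χ hin
    by_cases hχ1 : (χ : Y → ℂ) = 1
    · exfalso
      apply hin
      rw [hχ1, classInner_sub_left, classInner_fixN_one, classInner_irr_self isIrr_one, sub_self]
    · rw [classInner_sub_left, classInner_irr_ne isIrr_one χ.2 (Ne.symm hχ1), sub_zero] at hin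
      exact dvd_of_fixN R hPS χ.2 hχ1 _ hin

end

end Cfsg.Agent.H211.Dl
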